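import Groth.Agent.Lib.EssDimRep.FibreTdeg
import Groth.Agent.Lib.AlgSpDecent.QS
import Groth.Agent.Lib.AlgSpDecent.Decent
import Groth.Agent.Lib.AlgSpMor.LocP
import Groth.Prelude.Def_EssDim
import Groth.Prelude.Def_StCurv2

/-!
# A field point of an algebraic space over a field descends to a field of small transcendence degree
-/

set_option autoImplicit false
set_option linter.style.haveILetI false

universe u

open CategoryTheory CategoryTheory.Limits AlgebraicGeometry Opposite
open AlgSp (Sp yon RepWith IsAlgSpace)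

namespace Groth.Agent.Lib.EssDimRep.Descend

open PointDim.Basic

variable {k : Type u} [Field k]

theorem trdeg_residueField_le {K : Type u} [Field K] [Algebra k K] {A : Scheme.{u}}
    (m : A ⟶ Spec (CommRingCat.of K)) [LocallyOfFiniteType m] (a : A) {d : ℕ}
    (hd : natTdeg m a ≤ d) :
    letI := ((kToRes m a).hom.comp (algebraMap k K)).toAlgebra
    Cardinal.toENat (Algebra.trdeg k (A.residueField a)) ≤ Cardinal.toENat (Algebra.trdeg k K) + d := by
  letI : Algebra K (A.residueField a) := (kToRes m a).hom.toAlgebra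
  letI : Algebra k (A.residueField a) := ((kToRes m a).hom.comp (algebraMap k K)).toAlgebra
  haveI : IsScalarTower k K (A.residueField a) := IsScalarTower.of_algebraMap_eq fun _ => rfl
  show Cardinal.toENat (Algebra.trdeg k (A.residueField a)) ≤ _
  rw [← trdeg_add_eq k K (A := A.residueField a), map_add,
    show Algebra.trdeg K (A.residueField a) = (natTdeg m a : Cardinal) from tdeg_eq_natTdeg m a,
    map_natCast]
  exact add_le_add le_rfl (by exact_mod_cast hd)

theorem exists_descend {K L : Type u} [Field K] [Algebra k K] [Field L] [Algebra k L]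
    (P : AlgSp.Space (Spec (CommRingCat.of k)))
    (π : P.obj ⟶ (yon (Spec (CommRingCat.of k))).obj (SGA7.pt (K := k) K)) (d : ℕ)
    (hlft : AlgSp.LocP @LocallyOfFiniteType π) (hqs : AlgSp.IsQuasiSeparatedMor π)
    (hdim : CurvSt.RelDimLE d π) (s : P.obj.obj.obj (op (SGA7.pt (K := k) L))) :
    ∃ E : IntermediateField k L,
      Cardinal.toENat (Algebra.trdeg k E) ≤ Cardinal.toENat (Algebra.trdeg k K) + d ∧
      ∃ s₀ : P.obj.obj.obj (op (SGA7.pt (K := k) E)), P.obj.obj.map (EssDim.resPt E.val).op s₀ = s := by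
  have hdec : AlgSp.IsDecent P.obj :=
    AlgSpDecent.QS.isDecentMor_of_isQuasiSeparatedMor P.property (IsAlgSpace.yon_obj _) hqs
      (𝟙 _) (𝟙 _) π (IsPullback.of_id_fst)
  let p : AlgSp.FieldPt P.obj := ⟨L, Spec.map (CommRingCat.ofHom (algebraMap k L)), s⟩
  obtain ⟨p₀, hp₀, hm, -⟩ := hdec (AlgSp.Points.mk p)
  haveI := hm
  have hr := AlgSpDecent.Decent.representable_toHom P.property p₀
  obtain ⟨U, V, a, b, h, u, ha, hb, hsq, hau, hdu⟩ := hdim (AlgSp.Points.mk p)
  obtain ⟨c, hc, -⟩ := AlgSpDecent.Decent.existsUnique_factor (p := p₀) (q := p) hr hp₀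
  obtain ⟨c', -, -⟩ := AlgSpDecent.Decent.existsUnique_factor (p := p₀)
    (q := AlgSp.FieldPt.ofPt a u) hr (hp₀.trans hau.symm)
  letI : Algebra k p₀.K := (Spec.preimage p₀.str).hom.toAlgebra
  have hstr : Spec.map (CommRingCat.ofHom (algebraMap k p₀.K)) = p₀.str := Spec.map_preimage _
  obtain ⟨g, rfl⟩ := (yon (Spec (CommRingCat.of k))).map_surjective b
  have hg : Etale g.left := (AlgSp.repWith_yon_map_iff (S := Spec (CommRingCat.of k)) @Etale g).1 hb
  have hh : LocallyOfFiniteType h.left := hlft a _ h ha hb hsq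
  let m : U.left ⟶ Spec (CommRingCat.of K) := h.left ≫ g.left
  have hm' : LocallyOfFiniteType m := inferInstanceAs (LocallyOfFiniteType (h.left ≫ g.left))
  have hd : natTdeg m u ≤ d := by
    have := (FibreTdeg.natTdeg_le_fibreDimAt h.left g.left u).trans hdu
    exact_mod_cast this
  letI algU : Algebra k (U.left.residueField u) := ((kToRes m u).hom.comp (algebraMap k K)).toAlgebra
  have hU : U.left.fromSpecResidueField u ≫ U.hom =
      Spec.map (CommRingCat.ofHom (algebraMap k (U.left.residueField u))) := by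
    rw [show CommRingCat.ofHom (algebraMap k (U.left.residueField u)) =
      CommRingCat.ofHom (algebraMap k K) ≫ kToRes m u from rfl, Spec.map_comp, specMap_kToRes,
      Category.assoc, Category.assoc, ← Over.w h]
    congr 2
    exact (Over.w g).symm
  let ψ' : p₀.K →ₐ[k] (U.left.residueField u) :=
    { (Spec.preimage c'.left).hom with
      commutes' := fun t => by
        have := Over.w c'
        change c'.left ≫ p₀.str = U.left.fromSpecResidueField u ≫ U.hom at this
        rw [hU, ← hstr, ← Spec.map_preimage c'.left, ← Spec.map_comp] at this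
        exact congr($(Spec.map_injective this).hom t) }
  let ψ : p₀.K →ₐ[k] L :=
    { (Spec.preimage c.left).hom with
      commutes' := fun t => by
        have := Over.w c
        change c.left ≫ p₀.str = Spec.map _ at this
        rw [← hstr, ← Spec.map_preimage c.left, ← Spec.map_comp] at this
        exact congr($(Spec.map_injective this).hom t) }
  let e : p₀.K ≃ₐ[k] ψ.fieldRange := AlgEquiv.ofInjectiveField ψ
  let i : SGA7.pt (K := k) ψ.fieldRange ⟶ p₀.pt :=
    Over.homMk (Spec.map (CommRingCat.ofHom (e.toAlgHom : p₀.K →+* ψ.fieldRange))) (by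
      show Spec.map _ ≫ p₀.str = Spec.map _
      rw [← hstr, ← Spec.map_comp, ← CommRingCat.ofHom_comp, AlgHom.comp_algebraMap])
  have hi : EssDim.resPt (ψ.fieldRange).val ≫ i = c := by
    ext : 1
    show Spec.map _ ≫ Spec.map _ = c.left
    rw [← Spec.map_comp, ← Spec.map_preimage c.left]
    congr 1
  refine ⟨ψ.fieldRange, ?_, P.obj.obj.map i.op p₀.val, ?_⟩
  · refine le_trans ?_ (trdeg_residueField_le (k := k) m u hd)
    rw [← e.trdeg_eq]
    exact Cardinal.toENat.monotone' (trdeg_le_of_injective ψ' ψ'.toRingHom.injective)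
  · rw [← Functor.map_comp_apply, ← op_comp, hi, ← AlgSp.FieldPt.toHom_app]
    have := congrArg (fun φ => φ.hom.app (op p.pt) ⟨𝟙 p.pt⟩) hc
    refine Eq.trans ?_ ((this.trans (AlgSp.FieldPt.toHom_app p (𝟙 p.pt))).trans ?_)
    · show _ = p₀.toHom.hom.app _ (((yon _).map c).hom.app _ ⟨𝟙 p.pt⟩)
      congr 1
    · rw [op_id, Functor.map_id_apply]

end Groth.Agent.Lib.EssDimRep.Descend
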