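import Groth.Agent.Lib.PointDim.Basic
import Groth.Agent.Lib.AlgSpDecent.Fibre
import Groth.Prelude.Def_Flat
import Mathlib.AlgebraicGeometry.Fiber

/-!
# Transcendence degree of a point is at most the local fibre dimension
-/

set_option autoImplicit false
set_option linter.style.haveILetI false

universe u

open CategoryTheory AlgebraicGeometry TopologicalSpace

namespace Groth.Agent.Lib.EssDimRep.FibreTdeg

open PointDim.Basic

variable {k : Type u} [Field k]

/-- Every neighbourhood of a point has dimension at least `trdeg κ(x)`. -/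
theorem natTdeg_le_topologicalKrullDim_opens {X : Scheme.{u}} (f : X ⟶ Spec (CommRingCat.of k))
    [LocallyOfFiniteType f] (x : X) (W : X.Opens) (hx : x ∈ W) :
    (natTdeg f x : WithBot ℕ∞) ≤ topologicalKrullDim ↥(closure {x} ∩ (W : Set X)) := by
  let x' : (W : Scheme.{u}) := ⟨x, hx⟩
  have h : natTdeg (W.ι ≫ f) x' = natTdeg f x :=
    congrArg Cardinal.toNat (tdeg_openImmersion W.ι f (W.ι ≫ f) rfl x')
  refine le_of_eq_of_le (h ▸ (topologicalKrullDim_closure_singleton (W.ι ≫ f) x').symm) ?_
  have hc : ∀ z : ↥(closure ({x'} : Set (W : Scheme.{u}))), W.ι z.1 ∈ closure {x} ∩ (W : Set X) :=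
    fun z => ⟨by
      have := image_closure_subset_closure_image W.ι.continuous ⟨z.1, z.2, rfl⟩
      rw [Set.image_singleton] at this
      exact this, z.1.2⟩
  exact (Topology.IsInducing.codRestrict
    (W.ι.isOpenEmbedding.isInducing.comp Topology.IsInducing.subtypeVal) hc).topologicalKrullDim_le

theorem natTdeg_le_fibreDimAt {A B : Scheme.{u}} (h : A ⟶ B) (g : B ⟶ Spec (CommRingCat.of k))
    [Etale g] [LocallyOfFiniteType h] (a : A) :
    (natTdeg (h ≫ g) a : WithBot ℕ∞) ≤ FlatMor.fibreDimAt h a := by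
  have := AlgSpDecent.Fibre.locallyQuasiFinite_of_etale g
  have := IsLocallyArtinian.of_locallyQuasiFinite (f := g)
  have hd : DiscreteTopology B := inferInstance
  have hsub : closure {a} ⊆ h ⁻¹' {h a} :=
    closure_minimal (by simp) ((isClosed_discrete _).preimage h.continuous)
  refine le_iInf fun ⟨U, hU⟩ => ?_
  obtain ⟨V, hV, hVU⟩ := (h.fiberι (h a)).isEmbedding.isInducing.isOpen_iff.1 U.isOpen
  let W : A.Opens := ⟨V, hV⟩
  have hai : h.fiberι (h a) (h.asFiber a) = a := h.fiberι_fiberHomeo_symm _ _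
  have haW : a ∈ W := by
    have : h.asFiber a ∈ (h.fiberι (h a)) ⁻¹' V := hVU ▸ hU
    have h2 : h.fiberι (h a) (h.asFiber a) ∈ V := this
    rwa [hai] at h2
  refine (natTdeg_le_topologicalKrullDim_opens (h ≫ g) a W haW).trans ?_
  let i : ↥(closure {a} ∩ (W : Set A)) → ↥(h ⁻¹' {h a}) := fun z => ⟨z.1, hsub z.2.1⟩
  have hi : Topology.IsInducing i := Topology.IsInducing.subtypeVal.codRestrict fun z => hsub z.2.1
  let j : ↥(closure {a} ∩ (W : Set A)) → ↥(U : Set (h.fiber (h a))) := fun z =>
    ⟨(h.fiberHomeo (h a)).symm (i z), by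
      rw [← hVU]
      show h.fiberι (h a) _ ∈ V
      rw [h.fiberι_fiberHomeo_symm]
      exact z.2.2⟩
  exact (Topology.IsInducing.codRestrict ((h.fiberHomeo (h a)).symm.isInducing.comp hi)
    fun z => (j z).2).topologicalKrullDim_le

end Groth.Agent.Lib.EssDimRep.FibreTdeg
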