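import Groth.Agent.Lib.EssDimRep.Descend
import Groth.Agent.Lib.AlgSpDecent.FieldDescent
import Groth.Agent.Lib.AlgSpDecent.Factor
import Groth.Agent.Lib.AlgSpDecent.PointRel
import Mathlib.AlgebraicGeometry.Morphisms.Finite
import Mathlib.AlgebraicGeometry.Morphisms.QuasiFinite

/-!
# A field point of a sheaf with a finite surjective scheme cover descends

If `m : h_W ⟶ F` is finite and surjective, every `L`-valued point of `F` comes from an intermediate field of
transcendence degree at most that of the residue field of some point of `W`.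
-/

set_option autoImplicit false
set_option linter.style.haveILetI false

universe u

open CategoryTheory CategoryTheory.Limits AlgebraicGeometry Opposite
open AlgSp (Sp yon RepWith Representable FieldPt)

namespace Groth.Agent.Lib.EssDimRep.FiniteCover

open PointDim.Basic AlgSpDecent

/-- The spectrum of a field receiving a finite morphism gives a discrete source. -/
theorem discreteTopology_of_isFinite {A : Scheme.{u}} {K : Type u} [Field K]
    (f : A ⟶ Spec (CommRingCat.of K)) [IsFinite f] : DiscreteTopology A :=
  have : IsLocallyArtinian A := .of_locallyQuasiFinite f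
  inferInstance

theorem isFinite_preimmersion_comp {T A : Scheme.{u}} {K : Type u} [Field K] (i : T ⟶ A) [IsPreimmersion i]
    (f : A ⟶ Spec (CommRingCat.of K)) [IsFinite f] : IsFinite (i ≫ f) :=
  have := discreteTopology_of_isFinite f
  have : IsClosedImmersion i := .of_isPreimmersion i (isClosed_discrete _)
  inferInstance

theorem isFinite_over_comp {S : Scheme.{u}} {F : Sp S} (q : FieldPt F) {G T A : Over S} (θ : G ≅ T) (i : T ⟶ A)
    [IsPreimmersion i.left] (f : A ⟶ q.pt) [IsFinite f.left] : IsFinite (θ.hom ≫ i ≫ f).left := by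
  have := isFinite_preimmersion_comp (K := q.K) i.left f.left
  have : IsIso θ.hom.left := inferInstanceAs (IsIso ((Over.forget _).map θ.hom))
  rw [Over.comp_left, Over.comp_left]
  infer_instance

variable {k : Type u} [Field k]

set_option maxHeartbeats 200000 in
theorem exists_descend {F : Sp (Spec (CommRingCat.of k))} {W : Over (Spec (CommRingCat.of k))}
    (m : (yon _).obj W ⟶ F) (hfin : RepWith @IsFinite m) (hsurj : RepWith @Surjective m)
    {L : Type u} [Field L] [Algebra k L] (s : F.obj.obj (op (SGA7.pt (K := k) L))) :
    ∃ (w : W.left) (E : IntermediateField k L),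
      (letI := (kToRes W.hom w).hom.toAlgebra
       Cardinal.toENat (Algebra.trdeg k E) ≤ Cardinal.toENat (Algebra.trdeg k (W.left.residueField w))) ∧
      ∃ s₀ : F.obj.obj (op (SGA7.pt (K := k) E)), F.obj.map (EssDim.resPt E.val).op s₀ = s := by
  let pS : FieldPt F := ⟨L, Spec.map (CommRingCat.ofHom (algebraMap k L)), s⟩
  let sL : (yon _).obj pS.pt ⟶ F := pS.toHom
  have hr : Representable m := hfin.rep
  let π : hr.pullback sL ⟶ pS.pt := hr.snd sL
  have hπf : IsFinite π.left := hfin.property sL _ _ (hr.isPullback' sL)
  have hπs : Surjective π.left := hsurj.property sL _ _ (hr.isPullback' sL)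
  obtain ⟨e, -⟩ := hπs.surj (IsLocalRing.closedPoint L)
  let a : hr.pullback sL ⟶ W := hr.fst' sL
  let w : W.left := a.left e
  let q : FieldPt F := FieldPt.ofPt m w
  -- `q` is representable with finite self fibre product
  have hq : Representable q.toHom := by
    rw [PointRel.incl_comp]
    exact (yon _).relativelyRepresentable.comp_mem _ _ (AlgSp.representable_yon_map _) hr
  haveI : IsFinite (hq.snd q.toHom).left := by
    let i : q.pt ⟶ W := PointRel.incl w m
    have sqm := hr.isPullback' q.toHom
    have sq := ((IsPullback.of_hasPullback i (hr.fst' q.toHom)).map (yon _)).paste_vert sqm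
    rw [← PointRel.incl_comp, ← Functor.map_comp] at sq
    let θ := (yon (Spec (CommRingCat.of k))).preimageIso ((hq.isPullback' q.toHom).isoIsPullback _ _ sq)
    have hθ : θ.hom ≫ pullback.snd i (hr.fst' q.toHom) ≫ hr.snd q.toHom = hq.snd q.toHom := by
      apply (yon (Spec (CommRingCat.of k))).map_injective
      rw [Functor.map_comp, Functor.preimageIso_hom, Functor.map_preimage]
      exact IsPullback.isoIsPullback_hom_snd ..
    have hfq : IsFinite (hr.snd q.toHom).left := hfin.property q.toHom _ _ sqm
    have : IsPreimmersion i.left := inferInstanceAs (IsPreimmersion (W.left.fromSpecResidueField w))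
    have : IsPreimmersion (pullback.snd i (hr.fst' q.toHom)).left :=
      MorphismProperty.of_isPullback (P := @IsPreimmersion)
        ((IsPullback.of_hasPullback i (hr.fst' q.toHom)).map (Over.forget _)) ‹_›
    rw [← hθ]
    exact isFinite_over_comp q θ _ _
  obtain ⟨p, c, hc, hm, -⟩ := FieldDescent.exists_mono_point q hq
  haveI := hm
  -- the point over the residue field of `e`
  let L' := Over.mk ((hr.pullback sL).left.fromSpecResidueField e ≫ (hr.pullback sL).hom)
  let d : L' ⟶ hr.pullback sL := Over.homMk ((hr.pullback sL).left.fromSpecResidueField e) rfl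
  have : IsFinite (d ≫ π).left :=
    isFinite_preimmersion_comp (K := L) ((hr.pullback sL).left.fromSpecResidueField e) π.left
  let r : L' ⟶ q.pt := Over.homMk (Spec.map (a.left.residueFieldMap e)) (by
    show Spec.map _ ≫ W.left.fromSpecResidueField w ≫ W.hom = _ ≫ (hr.pullback sL).hom
    rw [Scheme.Hom.SpecMap_residueFieldMap_fromSpecResidueField_assoc, Over.w a])
  have hrd : r ≫ PointRel.incl w m = d ≫ a :=
    Over.OverMorphism.ext (Scheme.Hom.SpecMap_residueFieldMap_fromSpecResidueField _ _)
  have hfac : (yon _).map (r ≫ c) ≫ p.toHom = (yon _).map (d ≫ π) ≫ sL := by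
    rw [Functor.map_comp, Category.assoc, hc, PointRel.incl_comp, ← Category.assoc, ← Functor.map_comp,
      hrd, Functor.map_comp, Category.assoc, Functor.map_comp, Category.assoc, (hr.isPullback' sL).w]
  have hcov : AlgSpace.fppfCover (d ≫ π).left := by
    have : Subsingleton ↥pS.pt.left := inferInstanceAs (Subsingleton (PrimeSpectrum L))
    have : Nonempty ↥L'.left := inferInstanceAs (Nonempty (PrimeSpectrum _))
    have : Surjective (d ≫ π).left := ⟨fun y => ⟨Classical.arbitrary _, Subsingleton.elim _ _⟩⟩
    have : IsLocallyNoetherian pS.pt.left :=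
      inferInstanceAs (IsLocallyNoetherian (Spec (CommRingCat.of L)))
    have : IsIntegral pS.pt.left := inferInstanceAs (IsIntegral (Spec (CommRingCat.of L)))
    have : Flat (d ≫ π).left := inferInstance
    exact AlgSpace.fppfCover_mk _
  have := AlgSpace.isLocallySurjective_yon_map (d ≫ π) hcov
  obtain ⟨l, hl⟩ := Factor.exists_descend ((yon _).map (d ≫ π)) p.toHom sL ((yon _).map (r ≫ c)) hfac
  obtain ⟨i, rfl⟩ := (yon _).map_surjective l
  -- transcendence degrees
  letI : Algebra k p.K := (Spec.preimage p.str).hom.toAlgebra
  have hstr : Spec.map (CommRingCat.ofHom (algebraMap k p.K)) = p.str := Spec.map_preimage _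
  letI algW : Algebra k (W.left.residueField w) := (kToRes W.hom w).hom.toAlgebra
  let ψ' : p.K →ₐ[k] (W.left.residueField w) :=
    { (Spec.preimage c.left).hom with
      commutes' := fun t => by
        have := Over.w c
        change c.left ≫ p.str = W.left.fromSpecResidueField w ≫ W.hom at this
        rw [← specMap_kToRes, ← hstr, ← Spec.map_preimage c.left, ← Spec.map_comp] at this
        exact congr($(Spec.map_injective this).hom t) }
  let ψ : p.K →ₐ[k] L :=
    { (Spec.preimage i.left).hom with
      commutes' := fun t => by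
        have := Over.w i
        change i.left ≫ p.str = Spec.map _ at this
        rw [← hstr, ← Spec.map_preimage i.left, ← Spec.map_comp] at this
        exact congr($(Spec.map_injective this).hom t) }
  let f : p.K ≃ₐ[k] ψ.fieldRange := AlgEquiv.ofInjectiveField ψ
  let j : SGA7.pt (K := k) ψ.fieldRange ⟶ p.pt :=
    Over.homMk (Spec.map (CommRingCat.ofHom (f.toAlgHom : p.K →+* ψ.fieldRange))) (by
      show Spec.map _ ≫ p.str = Spec.map _
      rw [← hstr, ← Spec.map_comp, ← CommRingCat.ofHom_comp, AlgHom.comp_algebraMap])
  have hj : EssDim.resPt (ψ.fieldRange).val ≫ j = i := by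
    ext : 1
    show Spec.map _ ≫ Spec.map _ = i.left
    rw [← Spec.map_comp, ← Spec.map_preimage i.left]
    congr 1
  refine ⟨w, ψ.fieldRange, ?_, F.obj.map j.op p.val, ?_⟩
  · rw [← f.trdeg_eq]
    exact Cardinal.toENat.monotone' (trdeg_le_of_injective ψ' ψ'.toRingHom.injective)
  · rw [← Functor.map_comp_apply, ← op_comp, hj]
    have := congrArg ((AlgSp.J _).uliftYonedaEquiv) hl
    rw [Core.uliftYonedaEquiv_comp_map, FieldPt.uliftYonedaEquiv_toHom] at this
    exact this.trans (FieldPt.uliftYonedaEquiv_toHom pS)

end Groth.Agent.Lib.EssDimRep.FiniteCover
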