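import Groth.Agent.Lib.EssDimRep.QuotFibre
import Groth.Agent.Lib.EssDimRep.FiniteCover
import Groth.Agent.Lib.PointDim.Residue
import Mathlib.AlgebraicGeometry.Morphisms.Finite
import Mathlib.FieldTheory.IntermediateField.Adjoin.Basic
import Mathlib.FieldTheory.AlgebraicClosure

/-!
# Essential dimension of a quotient stack is bounded by that of `BG` plus the dimension
-/

set_option autoImplicit false
set_option linter.style.haveILetI false
set_option backward.isDefEq.respectTransparency false
set_option backward.isDefEq.respectTransparency.types false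

universe u

open CategoryTheory CategoryTheory.Limits MonoidalCategory CartesianMonoidalCategory MonObj GrpObj AlgebraicGeometry Opposite

namespace Groth.Agent.Lib.EssDimRep.QuotBound

open AlgSt (QuotObj QuotSt)
open PointDim.Basic

/-- The transcendence degree of a compositum is at most the sum. -/
theorem trdeg_le_add_of_closure {k A B M : Type u} [Field k] [Field A] [Field B] [Field M]
    [Algebra k A] [Algebra k B] [Algebra k M] (f : A →ₐ[k] M) (g : B →ₐ[k] M)
    (h : Subfield.closure (Set.range f ∪ Set.range g) = ⊤) :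
    Algebra.trdeg k M ≤ Algebra.trdeg k A + Algebra.trdeg k B := by
  obtain ⟨s, hs⟩ := exists_isTranscendenceBasis k A
  obtain ⟨t, ht⟩ := exists_isTranscendenceBasis k B
  let U : Set M := f '' s ∪ g '' t
  let N := IntermediateField.adjoin k U
  have key : ∀ {C : Type u} [Field C] [Algebra k C] (φ : C →ₐ[k] M) (r : Set C),
      IsTranscendenceBasis k ((↑) : r → C) → φ '' r ⊆ U → ∀ c, IsAlgebraic N (φ c) := by
    intro C _ _ φ r hr hU c
    have hc := hr.isAlgebraic.isAlgebraic c
    rw [Subtype.range_coe] at hc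
    have hmem : ∀ x : Algebra.adjoin k r, φ x.1 ∈ N := by
      intro x
      have : φ x.1 ∈ (Algebra.adjoin k r).map φ := ⟨_, x.2, rfl⟩
      rw [AlgHom.map_adjoin] at this
      exact IntermediateField.algebra_adjoin_le_adjoin k _ (Algebra.adjoin_mono hU this)
    let ρ : Algebra.adjoin k r →+* N :=
      ((φ : C →+* M).comp (Algebra.adjoin k r).val.toRingHom).codRestrict N hmem
    exact hc.ringHom_of_comp_eq (f := ρ) (g := (φ : C →+* M))
      (fun x y e => Subtype.ext (φ.toRingHom.injective (congrArg Subtype.val e))) (RingHom.ext fun _ => rfl)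
  have halg : Algebra.IsAlgebraic N M := by
    refine ⟨fun x => ?_⟩
    rw [← mem_algebraicClosure_iff]
    have hle : Subfield.closure (Set.range f ∪ Set.range g) ≤ (algebraicClosure N M).toSubfield := by
      rw [Subfield.closure_le]
      rintro _ (⟨a, rfl⟩ | ⟨b, rfl⟩)
      · exact mem_algebraicClosure_iff.2 (key f s hs Set.subset_union_left a)
      · exact mem_algebraicClosure_iff.2 (key g t ht Set.subset_union_right b)
    rw [h] at hle
    exact hle (Subfield.mem_top x)
  have : Algebra.IsAlgebraic (Algebra.adjoin k U) M := IntermediateField.isAlgebraic_adjoin_iff_top.1 halg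
  refine le_trans (Algebra.IsAlgebraic.trdeg_le_cardinalMk k U) ?_
  refine le_trans (Cardinal.mk_union_le _ _) (add_le_add ?_ ?_)
  · rw [← hs.cardinalMk_eq_trdeg]; exact Cardinal.mk_image_le
  · rw [← ht.cardinalMk_eq_trdeg]; exact Cardinal.mk_image_le

variable {k : Type u} [Field k]

/-- A torsor over the spectrum of a field has a point with finite residue field extension. -/
theorem exists_finite_point {S : Scheme.{u}} {G X : Over S} [GrpObj G] {aX : AlgGrp.Action G X}
    (A : QuotObj Scheme.fppfPrecoverage G aX) [Subsingleton A.base.left] [Nonempty A.base.left]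
    [JacobsonSpace A.base.left] :
    ∃ (F : Type u) (_ : Field F) (str : Spec (CommRingCat.of F) ⟶ S) (σ : Over.mk str ⟶ A.P),
      IsFinite (σ ≫ A.π).left ∧ Surjective (σ ≫ A.π).left := by
  obtain ⟨R, hR, hs⟩ := A.loc
  obtain ⟨J, V, f, rfl⟩ := R.exists_eq_ofArrows
  obtain ⟨hsurj, hflfp⟩ := (Scheme.ofArrows_mem_precoverage_iff _).1 hR
  obtain ⟨j, y, -⟩ := hsurj (Classical.arbitrary _)
  have : LocallyOfFinitePresentation (f j) := (hflfp j).2
  have : JacobsonSpace (V j) := LocallyOfFiniteType.jacobsonSpace (f j)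
  obtain ⟨v, -, hv⟩ := nonempty_inter_closedPoints (Z := (Set.univ : Set (V j))) ⟨y, trivial⟩ isOpen_univ.isLocallyClosed
  have : IsClosedImmersion ((V j).fromSpecResidueField v) := isClosed_singleton_iff_isClosedImmersion.mp hv
  obtain ⟨s, hsf⟩ := hs (f j) ⟨j⟩
  let σ : Over.mk ((V j).fromSpecResidueField v ≫ f j ≫ A.base.hom) ⟶ A.P :=
    Over.homMk ((V j).fromSpecResidueField v ≫ s) (by
      change ((V j).fromSpecResidueField v ≫ s) ≫ A.P.hom = _
      rw [← Over.w A.π, Category.assoc]
      congr 1
      rw [← Category.assoc]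
      exact congrArg (fun a => a ≫ A.base.hom) hsf)
  refine ⟨(V j).residueField v, inferInstance, _, σ, ?_⟩
  have e : (σ ≫ A.π).left = (V j).fromSpecResidueField v ≫ f j := by
    change ((V j).fromSpecResidueField v ≫ s) ≫ A.π.left = _
    rw [Category.assoc]
    exact congrArg _ hsf
  rw [e]
  refine ⟨(isFinite_iff_locallyOfFiniteType_of_jacobsonSpace (X := Spec ((V j).residueField v))).mpr inferInstance,
    ⟨fun z => ?_⟩⟩
  exact ⟨IsLocalRing.closedPoint _, Subsingleton.elim _ _⟩

/-- The residue field of a point of `T ×_k X` has transcendence degree at most `trdeg K + dim X`. -/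
theorem trdeg_residueField_tensor_le {F : Type u} [Field F] (str : Spec (CommRingCat.of F) ⟶ Spec (CommRingCat.of k))
    (X : Over (Spec (CommRingCat.of k))) [LocallyOfFiniteType X.hom] (w : (Over.mk str ⊗ X).left) :
    letI := (kToRes (Over.mk str ⊗ X).hom w).hom.toAlgebra
    letI := (Spec.preimage str).hom.toAlgebra
    (Cardinal.toENat (Algebra.trdeg k ((Over.mk str ⊗ X).left.residueField w)) : WithBot ℕ∞) ≤
      (Cardinal.toENat (Algebra.trdeg k F) : WithBot ℕ∞) + topologicalKrullDim X.left := by
  letI algF : Algebra k F := (Spec.preimage str).hom.toAlgebra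
  let T : Over (Spec (CommRingCat.of k)) := Over.mk str
  let p := fst T X
  let q := snd T X
  have sq : IsPullback p.left q.left (toUnit T).left (toUnit X).left :=
    (AlgSt.isPullback_fst_snd T X).map (Over.forget _)
  letI algW : Algebra k ((T ⊗ X).left.residueField w) := (kToRes (T ⊗ X).hom w).hom.toAlgebra
  letI algT : Algebra k (T.left.residueField (p.left w)) := (kToRes T.hom (p.left w)).hom.toAlgebra
  letI algX : Algebra k (X.left.residueField (q.left w)) := (kToRes X.hom (q.left w)).hom.toAlgebra
  let f : T.left.residueField (p.left w) →ₐ[k] (T ⊗ X).left.residueField w :=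
    { (p.left.residueFieldMap w).hom with
      commutes' := fun a => (congr($(kToRes_comp p.left T.hom (T ⊗ X).hom (Over.w p) w).hom a)).symm }
  let g : X.left.residueField (q.left w) →ₐ[k] (T ⊗ X).left.residueField w :=
    { (q.left.residueFieldMap w).hom with
      commutes' := fun a => (congr($(kToRes_comp q.left X.hom (T ⊗ X).hom (Over.w q) w).hom a)).symm }
  have h1 := trdeg_le_add_of_closure f g (PointDim.Residue.closure_range_union_eq_top sq w)
  have h2 : Algebra.trdeg k (T.left.residueField (p.left w)) ≤ Algebra.trdeg k F := by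
    let α : CommRingCat.of F ⟶ T.left.residueField (p.left w) :=
      Spec.preimage (T.left.fromSpecResidueField (p.left w))
    have hα : Spec.preimage str ≫ α = kToRes T.hom (p.left w) := by
      apply Spec.map_injective
      rw [Spec.map_comp, specMap_kToRes, Spec.map_preimage, Spec.map_preimage]
      rfl
    let a : F →ₐ[k] T.left.residueField (p.left w) :=
      { α.hom with commutes' := fun r => congr($(hα).hom r) }
    refine trdeg_le_of_surjective a ?_
    have : IsClosedImmersion (Spec.map α) := by
      rw [Spec.map_preimage]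
      have : Subsingleton T.left := inferInstanceAs (Subsingleton (PrimeSpectrum F))
      exact isClosed_singleton_iff_isClosedImmersion.mp (by
        rw [Set.eq_univ_of_forall (s := {p.left w}) fun z => Subsingleton.elim z _]; exact isClosed_univ)
    have : Surjective (Spec.map α) := by
      have : Subsingleton (Spec (CommRingCat.of F)) := inferInstanceAs (Subsingleton (PrimeSpectrum F))
      exact ⟨fun z => ⟨Classical.arbitrary _, Subsingleton.elim _ _⟩⟩
    have : IsReduced (Spec (CommRingCat.of F)) := inferInstance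
    have : IsIso (Spec.map α) := isIso_of_isClosedImmersion_of_surjective _
    exact (isIso_SpecMap_iff.1 this).2
  have h3 : (natTdeg X.hom (q.left w) : WithBot ℕ∞) ≤ topologicalKrullDim X.left := by
    rw [← topologicalKrullDim_closure_singleton X.hom (q.left w)]
    exact Topology.IsInducing.subtypeVal.topologicalKrullDim_le
  refine le_trans (WithBot.coe_le_coe.2 (Cardinal.toENat.monotone' (h1.trans (add_le_add h2 le_rfl)))) ?_
  show ((Cardinal.toENat (_ + _) : ℕ∞) : WithBot ℕ∞) ≤ _
  rw [map_add, show Algebra.trdeg k (X.left.residueField (q.left w)) = (natTdeg X.hom (q.left w) : Cardinal)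
    from tdeg_eq_natTdeg X.hom (q.left w), map_natCast, WithBot.coe_add]
  exact add_le_add le_rfl h3

/-- The image in `BG`. -/
noncomputable def toBG {S : Scheme.{u}} {K : Precoverage Scheme.{u}} {G X : Over S} [GrpObj G]
    {aX : AlgGrp.Action G X} (B : QuotObj K G aX) : QuotObj K G (AlgSt.trivAction G) :=
  { base := B.base, P := B.P, act := B.act, π := B.π, cart := B.cart, loc := B.loc
    φ := toUnit _, eqv := toUnit_unique _ _ }

theorem trdeg_eq_of_finite {K F : Type u} [Field K] [Field F] [Algebra k K]
    (c : CommRingCat.of K ⟶ CommRingCat.of F) (hc : c.hom.Finite) :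
    letI := (c.hom.comp (algebraMap k K)).toAlgebra
    Algebra.trdeg k F = Algebra.trdeg k K := by
  letI : Algebra K F := c.hom.toAlgebra
  letI : Algebra k F := (c.hom.comp (algebraMap k K)).toAlgebra
  haveI : IsScalarTower k K F := IsScalarTower.of_algebraMap_eq fun _ => rfl
  haveI : Module.Finite K F := hc
  haveI : Algebra.IsAlgebraic K F := Algebra.IsAlgebraic.of_finite K F
  show Algebra.trdeg k F = _
  rw [← trdeg_add_eq k K (A := F), trdeg_eq_zero (R := K), add_zero]

theorem edStAt_le {G X : Over (Spec (CommRingCat.of k))} [GrpObj G] {aX : AlgGrp.Action G X}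
    [LocallyOfFiniteType X.hom]
    [FibCat.IsFibGrpd (QuotSt Scheme.fppfPrecoverage G aX).p]
    [FibCat.IsFibGrpd (AlgSt.BG Scheme.fppfPrecoverage G).p]
    (L : Type u) [Field L] [Algebra k L] (x : StkCnt.pts (QuotSt Scheme.fppfPrecoverage G aX) L) :
    (EssDim.edStAt (QuotSt Scheme.fppfPrecoverage G aX) x : WithBot ℕ∞) ≤
      (EssDim.edStAt (AlgSt.BG Scheme.fppfPrecoverage G) ⟨toBG x.1, x.2⟩ : WithBot ℕ∞) +
        topologicalKrullDim X.left := by
  haveI : Nonempty {K : IntermediateField k L // EssDim.Descends (Gerb.isoClPsh (AlgSt.BG Scheme.fppfPrecoverage G))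
      (Quot.mk _ ⟨toBG x.1, x.2⟩) K} := ⟨⟨⊤, EssDim.descends_top _⟩⟩
  obtain ⟨⟨K₀, hK₀⟩, hmin⟩ := ciInf_mem
    (fun K : {K : IntermediateField k L // EssDim.Descends (Gerb.isoClPsh (AlgSt.BG Scheme.fppfPrecoverage G))
      (Quot.mk _ ⟨toBG x.1, x.2⟩) K} => Cardinal.toENat (Algebra.trdeg k K.1))
  refine le_of_le_of_eq ?_ (congrArg (fun a : ℕ∞ => (a : WithBot ℕ∞) + topologicalKrullDim X.left) hmin)
  obtain ⟨y₀, φ, hφ⟩ := (EssDim.descends_isoCl_iff (AlgSt.BG Scheme.fppfPrecoverage G) _ K₀).1 hK₀
  obtain ⟨B, hB⟩ := x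
  obtain ⟨A, hA⟩ := y₀
  change B.base = SGA7.pt (K := k) L at hB
  change A.base = SGA7.pt (K := k) K₀ at hA
  obtain ⟨φ, -⟩ : ∃ _φ' : toBG B ⟶ A, True := ⟨φ, trivial⟩
  have hlin : A.base.left = Spec (CommRingCat.of K₀) := by rw [hA]; rfl
  haveI : Subsingleton A.base.left := by rw [hlin]; exact inferInstanceAs (Subsingleton (PrimeSpectrum K₀))
  haveI : Nonempty A.base.left := by rw [hlin]; exact inferInstanceAs (Nonempty (PrimeSpectrum K₀))
  haveI : JacobsonSpace A.base.left := by
    rw [hlin]
    exact inferInstanceAs (JacobsonSpace (Spec (CommRingCat.of K₀)))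
  obtain ⟨F, _, str, σ, hσf, hσs⟩ := exists_finite_point A
  let sec := QuotFibre.ofObj B φ.base φ.top φ.cart φ.eqv
  let s : (QuotFibre.sh A aX).obj.obj (op (SGA7.pt (K := k) L)) := (show QuotFibre.Sec A aX _ from sec).restr (eqToHom hB.symm)
  obtain ⟨w, E, hE, s₀, hs₀⟩ := FiniteCover.exists_descend (QuotFibre.mHom A aX σ)
    (QuotFibre.repWith_mHom A aX σ @IsFinite hσf) (QuotFibre.repWith_mHom A aX σ @Surjective hσs) s
  have hdesc : EssDim.Descends (Gerb.isoClPsh (QuotSt Scheme.fppfPrecoverage G aX))
      (Quot.mk _ ⟨B, hB⟩) E := by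
    refine (EssDim.descends_isoCl_iff _ ⟨B, hB⟩ E).2 ⟨⟨(show QuotFibre.Sec A aX _ from s₀).toObj, rfl⟩, ?_⟩
    let j : B.base ⟶ SGA7.pt (K := k) E := eqToHom hB ≫ EssDim.resPt E.val
    have hσ : (show QuotFibre.Sec A aX _ from s₀).restr j = sec := by
      have e : (show QuotFibre.Sec A aX _ from s₀).restr (EssDim.resPt E.val) = sec.restr (eqToHom hB.symm) := hs₀
      have e' := congrArg (fun r => QuotFibre.Sec.restr r (eqToHom hB)) e
      refine Eq.trans ?_ (e'.trans ?_)
      · exact QuotFibre.Sec.ext' (Category.assoc _ _ _) fun W v p h h' =>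
          QuotFibre.Sec.congr _ (Category.assoc _ _ _).symm rfl _ _
      · refine QuotFibre.Sec.ext' (by simp [QuotFibre.Sec.restr]) fun W v p h h' => ?_
        exact QuotFibre.Sec.congr sec (by simp) rfl _ _
    refine ⟨QuotFibre.homToObj B φ.base φ.top φ.cart φ.eqv _ j hσ, ?_⟩
    exact IsHomLift.of_fac' (QuotSt Scheme.fppfPrecoverage G aX).p _ _ hB rfl (by
      change j = eqToHom hB ≫ EssDim.resPt E.val ≫ eqToHom _
      simp [j])
  refine le_trans (WithBot.coe_le_coe.2 ((EssDim.edAt_le_of_descends hdesc).trans hE)) ?_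
  refine le_trans (trdeg_residueField_tensor_le str X w) (add_le_add (le_of_eq ?_) le_rfl)
  -- the finite extension has the same transcendence degree
  letI algF : Algebra k F := (Spec.preimage str).hom.toAlgebra
  let c' : Over.mk str ⟶ SGA7.pt (K := k) K₀ := (σ ≫ A.π) ≫ eqToHom hA
  have hc' : IsFinite c'.left := by
    have : IsIso (eqToHom hA).left := inferInstanceAs (IsIso ((Over.forget _).map (eqToHom hA)))
    exact inferInstanceAs (IsFinite ((σ ≫ A.π).left ≫ (eqToHom hA).left))
  let c : CommRingCat.of K₀ ⟶ CommRingCat.of F := Spec.preimage c'.left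
  have hfin : c.hom.Finite := by
    rw [← IsFinite.SpecMap_iff, Spec.map_preimage]
    exact hc'
  have halg : algF = (c.hom.comp (algebraMap k K₀)).toAlgebra := by
    refine Algebra.algebra_ext _ _ fun r => ?_
    have := Over.w c'
    change c'.left ≫ Spec.map _ = str at this
    rw [← Spec.map_preimage c'.left, ← Spec.map_comp] at this
    have h' := this.trans (Spec.map_preimage str).symm
    exact congr($(Spec.map_injective h').hom r).symm
  have := trdeg_eq_of_finite (k := k) c hfin
  rw [← halg] at this
  rw [this]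

end Groth.Agent.Lib.EssDimRep.QuotBound
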