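import Groth.Agent.Lib.QuotSt.Sheaf
import Groth.Prelude.Def_AlgSpRep

/-!
# The fibre of `[X/G] ⟶ BG` over a torsor

For a torsor `A₀` over `T₀`, the sheaf over `T₀` of equivariant maps from the pullbacks of `A₀` to `X`, and its
cover by `T₁ ×_S X` attached to a point of `A₀` over `T₁ ⟶ T₀`.
-/

set_option autoImplicit false
set_option backward.isDefEq.respectTransparency false
set_option backward.isDefEq.respectTransparency.types false

universe u

open CategoryTheory CategoryTheory.Limits MonoidalCategory CartesianMonoidalCategory MonObj GrpObj AlgebraicGeometry Opposite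

namespace Groth.Agent.Lib.EssDimRep.QuotFibre

open AlgSt (QuotObj)
open AlgSp (Sp PSp yon)
open Groth.Agent.Lib.QuotSt

variable {S : Scheme.{u}} {K : Precoverage Scheme.{u}} {G X Y : Over S} [GrpObj G]
  {aY : AlgGrp.Action G Y}

section Diff

variable (A : QuotObj K G aY) {W : Over S}

/-- The element of `G` taking `q` to `p`. -/
noncomputable def diff (p q : W ⟶ A.P) (h : p ≫ A.π = q ≫ A.π) : W ⟶ G := A.cart.lift p q h ≫ fst G A.P

theorem diff_act (p q : W ⟶ A.P) (h : p ≫ A.π = q ≫ A.π) : lift (diff A p q h) q ≫ A.act.act = p := by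
  have e : lift (diff A p q h) q = A.cart.lift p q h := by
    apply CartesianMonoidalCategory.hom_ext
    · rw [lift_fst]; rfl
    · rw [lift_snd, IsPullback.lift_snd]
  rw [e, IsPullback.lift_fst]

theorem diff_unique (p q : W ⟶ A.P) (h : p ≫ A.π = q ≫ A.π) (g : W ⟶ G)
    (hg : lift g q ≫ A.act.act = p) : diff A p q h = g := by
  have e : A.cart.lift p q h = lift g q := by
    apply A.cart.hom_ext
    · rw [IsPullback.lift_fst, hg]
    · rw [IsPullback.lift_snd, lift_snd]
  rw [diff, e, lift_fst]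

theorem comp_diff {W' : Over S} (f : W' ⟶ W) (p q : W ⟶ A.P) (h : p ≫ A.π = q ≫ A.π) (h') :
    f ≫ diff A p q h = diff A (f ≫ p) (f ≫ q) h' := by
  refine (diff_unique A _ _ _ _ ?_).symm
  rw [← comp_lift_assoc, diff_act]

theorem diff_smul (g : W ⟶ G) (p q : W ⟶ A.P) (h : p ≫ A.π = q ≫ A.π) (h') :
    diff A (lift g p ≫ A.act.act) q h' = g * diff A p q h := by
  refine diff_unique A _ _ _ _ ?_
  rw [Act.mul_smul, diff_act]

end Diff

variable (A₀ : QuotObj K G aY) (aX : AlgGrp.Action G X)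

/-- An equivariant map to `X` from the pullback of `A₀` along `base`. -/
structure Sec (Z : Over S) : Type (u + 1) where
  /-- the map to the base of the torsor -/
  base : Z ⟶ A₀.base
  /-- the values on points of the pullback -/
  val : ∀ ⦃W : Over S⦄ (v : W ⟶ Z) (p : W ⟶ A₀.P), p ≫ A₀.π = v ≫ base → (W ⟶ X)
  nat : ∀ ⦃W W' : Over S⦄ (f : W' ⟶ W) (v : W ⟶ Z) (p : W ⟶ A₀.P) (h : p ≫ A₀.π = v ≫ base)
    (h' : (f ≫ p) ≫ A₀.π = (f ≫ v) ≫ base), f ≫ val v p h = val (f ≫ v) (f ≫ p) h'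
  eqv : ∀ ⦃W : Over S⦄ (g : W ⟶ G) (v : W ⟶ Z) (p : W ⟶ A₀.P) (h : p ≫ A₀.π = v ≫ base)
    (h' : (lift g p ≫ A₀.act.act) ≫ A₀.π = v ≫ base),
    val v (lift g p ≫ A₀.act.act) h' = lift g (val v p h) ≫ aX.act

variable {A₀ aX}

theorem Sec.ext' {Z : Over S} {σ τ : Sec A₀ aX Z} (hb : σ.base = τ.base)
    (hs : ∀ ⦃W : Over S⦄ (v : W ⟶ Z) (p : W ⟶ A₀.P) h h', σ.val v p h = τ.val v p h') : σ = τ := by
  obtain ⟨b, s, _, _⟩ := σ
  obtain ⟨b', s', _, _⟩ := τ
  obtain rfl : b = b' := hb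
  congr
  funext W v p h
  exact hs v p h h

theorem Sec.congr {Z : Over S} (σ : Sec A₀ aX Z) {W : Over S} {v v' : W ⟶ Z} {p p' : W ⟶ A₀.P}
    (ev : v = v') (ep : p = p') (h : p ≫ A₀.π = v ≫ σ.base) (h' : p' ≫ A₀.π = v' ≫ σ.base) :
    σ.val v p h = σ.val v' p' h' := by subst ev ep; rfl

theorem Sec.congr' {Z : Over S} {σ τ : Sec A₀ aX Z} (e : σ = τ) {W : Over S} (v : W ⟶ Z) (p : W ⟶ A₀.P)
    (h : p ≫ A₀.π = v ≫ σ.base) (h' : p ≫ A₀.π = v ≫ τ.base) : σ.val v p h = τ.val v p h' := by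
  subst e; rfl

/-- Restriction. -/
def Sec.restr {Z Z' : Over S} (σ : Sec A₀ aX Z) (g : Z' ⟶ Z) : Sec A₀ aX Z' where
  base := g ≫ σ.base
  val _ v p h := σ.val (v ≫ g) p (by rw [h, Category.assoc])
  nat _ _ f v p h h' := (σ.nat f _ p _ (by rw [h']; simp)).trans (σ.congr (Category.assoc f v g).symm rfl _ _)
  eqv _ g' v p h h' := σ.eqv g' _ p _ _

variable (A₀ aX)

/-- The presheaf of equivariant maps. -/
def psh : PSp S where
  obj Z := Sec A₀ aX Z.unop
  map g := ↾fun σ => σ.restr g.unop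
  map_id Z := by
    ext σ
    exact Sec.ext' (Category.id_comp _) fun W v p h h' => σ.congr (Category.comp_id v) rfl _ _
  map_comp g g' := by
    ext σ
    exact Sec.ext' (Category.assoc _ _ _) fun W v p h h' => σ.congr (Category.assoc v _ _).symm rfl _ _

theorem isSheaf : Presheaf.IsSheaf (AlgSp.J S) (psh A₀ aX) := by
  rw [isSheaf_iff_isSheaf_of_type]
  intro Z T hT x hx
  have hx' := (Presieve.compatible_iff_sieveCompatible x).1 hx
  let x' : ∀ ⦃W : Over S⦄ (w : W ⟶ Z), T w → Sec A₀ aX W := x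
  have hxc : ∀ ⦃W W' : Over S⦄ (g : W' ⟶ W) (w : W ⟶ Z) (hw : T w),
      x' (g ≫ w) (T.downward_closed hw g) = (x' w hw).restr g := fun W W' g w hw => hx' w g hw
  obtain ⟨base, hbase, -⟩ := exists_glue hT (fun W w hw => (x' w hw).base) fun W W' g w hw => by
    rw [hxc g w hw]; rfl
  have hb : ∀ ⦃W : Over S⦄ (w : W ⟶ Z) (hw : T w), (x' w hw).base = w ≫ base := fun W w hw =>
    (hbase w hw).symm
  have hc : ∀ ⦃W : Over S⦄ (v : W ⟶ Z) (p : W ⟶ A₀.P), p ≫ A₀.π = v ≫ base →
      ∀ ⦃V : Over S⦄ (w : V ⟶ W) (hw : T (w ≫ v)), (w ≫ p) ≫ A₀.π = 𝟙 V ≫ (x' _ hw).base := by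
    intro W v p h V w hw
    rw [hb, Category.id_comp, Category.assoc, h, Category.assoc]
  have hglue : ∀ ⦃W : Over S⦄ (v : W ⟶ Z) (p : W ⟶ A₀.P) (h : p ≫ A₀.π = v ≫ base),
      ∃! s : W ⟶ X, ∀ ⦃V : Over S⦄ (w : V ⟶ W) (hw : T (w ≫ v)),
        w ≫ s = (x' _ hw).val (𝟙 V) (w ≫ p) (hc v p h w hw) := by
    intro W v p h
    refine exists_glue ((AlgSp.J S).pullback_stable v hT)
      (fun V w hw => (x' _ hw).val (𝟙 V) (w ≫ p) (hc v p h w hw)) fun V V' g w hw => ?_
    have hgw : T ((g ≫ w) ≫ v) := by rw [Category.assoc]; exact T.downward_closed hw g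
    have e : x' ((g ≫ w) ≫ v) hgw = (x' _ hw).restr g := by
      rw [← hxc g _ hw]; simp only [Category.assoc]
    refine Eq.trans ?_ (Sec.congr' e.symm (𝟙 V') ((g ≫ w) ≫ p) (by
      change _ = _ ≫ g ≫ (x' _ hw).base
      rw [Category.id_comp, hb, Category.assoc, h]
      simp) _)
    refine ((x' _ hw).nat g (𝟙 V) (w ≫ p) _ ?_).trans ?_
    · rw [hb, Category.assoc, Category.assoc, h, Category.comp_id, Category.assoc]
    · exact (x' _ hw).congr (by simp) (Category.assoc _ _ _).symm _ _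
  choose s hs hu using hglue
  let σ : Sec A₀ aX Z :=
    { base := base
      val := fun W v p h => s v p h
      nat := fun W W' f v p h h' => by
        refine hom_ext_of_sieve ((AlgSp.J S).pullback_stable (f ≫ v) hT) fun V w hw => ?_
        have hw' : T ((w ≫ f) ≫ v) := by rw [Category.assoc]; exact hw
        have hw'' : T (w ≫ f ≫ v) := hw
        rw [← Category.assoc, hs v p h (w ≫ f) hw', hs (f ≫ v) (f ≫ p) h' w hw'']
        have e : x' ((w ≫ f) ≫ v) hw' = x' (w ≫ f ≫ v) hw'' := by simp only [Category.assoc]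
        refine (Sec.congr' e _ _ _ ?_).trans ((x' _ hw'').congr rfl (Category.assoc _ _ _) _ _)
        rw [hb, Category.id_comp, Category.assoc, Category.assoc, h]
        simp
      eqv := fun W g v p h h' => by
        refine hom_ext_of_sieve ((AlgSp.J S).pullback_stable v hT) fun V w hw => ?_
        have hw' : T (w ≫ v) := hw
        rw [hs v _ h' w hw']
        conv_rhs => rw [← Category.assoc, comp_lift, hs v p h w hw']
        refine ((x' _ hw').congr rfl (by rw [comp_lift_assoc]) _ ?_).trans ((x' _ hw').eqv _ _ _ _ ?_)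
        · rw [lift_act_π, hb, Category.id_comp, Category.assoc, h, Category.assoc]
        · rw [lift_act_π, hb, Category.id_comp, Category.assoc, h, Category.assoc] }
  refine ⟨σ, fun W w hw => ?_, fun τ hτ => ?_⟩
  · refine Sec.ext' (hbase w hw) fun V v p h h' => ?_
    change s (v ≫ w) p _ = (x' w hw).val v p h'
    have hm : T (𝟙 V ≫ v ≫ w) := by simpa using T.downward_closed hw v
    rw [← Category.id_comp (s _ _ _), hs (v ≫ w) p _ (𝟙 V) hm]
    have e : x' (𝟙 V ≫ v ≫ w) hm = (x' w hw).restr v := by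
      rw [← hxc v w hw]; simp only [Category.id_comp]
    refine (Sec.congr' e _ _ _ (by change _ = _ ≫ v ≫ _; rw [Category.id_comp, Category.id_comp]; exact h')).trans ?_
    exact (x' w hw).congr (Category.id_comp v) (Category.id_comp p) _ _
  · have hbτ : τ.base = base := hom_ext_of_sieve hT fun W w hw =>
      (congrArg (fun (r : Sec A₀ aX W) => r.base) (hτ w hw)).trans (hb w hw)
    refine Sec.ext' hbτ fun W v p h h' => hu v p h' _ fun V w hw => ?_
    rw [τ.nat w v p h (by rw [hbτ, Category.assoc, h', Category.assoc])]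
    refine Eq.trans ?_ (Sec.congr' (hτ _ hw) (𝟙 V) (w ≫ p) (by
      change _ = _ ≫ (w ≫ v) ≫ τ.base
      rw [Category.id_comp, hbτ, Category.assoc, h', Category.assoc]) _)
    exact τ.congr (Category.id_comp _).symm rfl _ _

/-- The sheaf of equivariant maps. -/
def sh : Sp S := ⟨psh A₀ aX, isSheaf A₀ aX⟩

section Cover

variable {T₁ : Over S} (σ₁ : T₁ ⟶ A₀.P)

/-- The universal equivariant map over `T₁ ×_S X`. -/
noncomputable def mSec : Sec A₀ aX (T₁ ⊗ X) where
  base := fst T₁ X ≫ σ₁ ≫ A₀.π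
  val _ v p h := lift (diff A₀ p (v ≫ fst T₁ X ≫ σ₁) (by rw [h]; simp)) (v ≫ snd T₁ X) ≫ aX.act
  nat _ _ f v p h h' := by
    rw [← Category.assoc, comp_lift, comp_diff A₀ f p _ _ (by rw [h']; simp)]
    simp only [Category.assoc]
  eqv _ g v p h h' := by
    rw [diff_smul A₀ g p _ (by rw [h]; simp), Act.mul_smul]

/-- The cover of the sheaf of equivariant maps. -/
noncomputable def mHom : (yon S).obj (T₁ ⊗ X) ⟶ sh A₀ aX :=
  (AlgSp.J S).uliftYonedaEquiv.symm (show (sh A₀ aX).obj.obj (op (T₁ ⊗ X)) from mSec A₀ aX σ₁)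

theorem mHom_app {T : Over S} (w : T ⟶ T₁ ⊗ X) :
    (mHom A₀ aX σ₁).hom.app (op T) ⟨w⟩ = (mSec A₀ aX σ₁).restr w := rfl

theorem app_map {Z : Over S} (s : (yon S).obj Z ⟶ sh A₀ aX) {T : Over S} (z : T ⟶ Z) :
    s.hom.app (op T) ⟨z⟩ = (show Sec A₀ aX Z from (AlgSp.J S).uliftYonedaEquiv s).restr z := by
  conv_lhs => rw [← (AlgSp.J S).uliftYonedaEquiv.symm_apply_apply s]
  rfl

variable {Z : Over S} (s : (yon S).obj Z ⟶ sh A₀ aX)

/-- The section attached to `s`. -/
noncomputable abbrev secOf : Sec A₀ aX Z := (AlgSp.J S).uliftYonedaEquiv s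

/-- The projection of the pullback of the cover to `T₁ ×_S X`. -/
noncomputable def pbFst : pullback (secOf A₀ aX s).base (σ₁ ≫ A₀.π) ⟶ T₁ ⊗ X :=
  lift (pullback.snd _ _) ((secOf A₀ aX s).val (pullback.fst _ _) (pullback.snd _ _ ≫ σ₁)
    (by rw [Category.assoc, ← pullback.condition]))

theorem restr_pbFst : (mSec A₀ aX σ₁).restr (pbFst A₀ aX σ₁ s) = (secOf A₀ aX s).restr (pullback.fst _ _) := by
  refine Sec.ext' ?_ fun W v p h h' => ?_
  · change pbFst A₀ aX σ₁ s ≫ fst T₁ X ≫ σ₁ ≫ A₀.π = _ ≫ _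
    rw [pbFst, lift_fst_assoc, ← pullback.condition]
  · change lift (diff A₀ p ((v ≫ pbFst A₀ aX σ₁ s) ≫ fst T₁ X ≫ σ₁) _) ((v ≫ pbFst A₀ aX σ₁ s) ≫ snd T₁ X) ≫
      aX.act = (secOf A₀ aX s).val (v ≫ pullback.fst _ _) p _
    have hq : (v ≫ pbFst A₀ aX σ₁ s) ≫ fst T₁ X ≫ σ₁ = v ≫ pullback.snd _ _ ≫ σ₁ := by
      rw [pbFst, Category.assoc, lift_fst_assoc]
    have hx : (v ≫ pbFst A₀ aX σ₁ s) ≫ snd T₁ X = (secOf A₀ aX s).val (v ≫ pullback.fst _ _)
        (v ≫ pullback.snd _ _ ≫ σ₁) (by simp [pullback.condition]) := by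
      rw [pbFst, Category.assoc, lift_snd]
      exact (secOf A₀ aX s).nat v _ _ _ _
    rw [hx, ← (secOf A₀ aX s).eqv]
    · refine (secOf A₀ aX s).congr rfl ?_ _ _
      rw [← hq]
      exact diff_act A₀ _ _ _
    · rw [lift_act_π]
      simp [pullback.condition]

theorem lift_pbFst {T : Over S} (ω : T ⟶ T₁ ⊗ X) (ζ : T ⟶ Z)
    (hc : (mSec A₀ aX σ₁).restr ω = (secOf A₀ aX s).restr ζ)
    (h : ζ ≫ (secOf A₀ aX s).base = (ω ≫ fst T₁ X) ≫ σ₁ ≫ A₀.π) :
    pullback.lift ζ (ω ≫ fst T₁ X) h ≫ pbFst A₀ aX σ₁ s = ω := by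
  apply CartesianMonoidalCategory.hom_ext
  · rw [Category.assoc, pbFst, lift_fst, pullback.lift_snd]
  · rw [Category.assoc, pbFst, lift_snd]
    have hb : ζ ≫ (secOf A₀ aX s).base = ω ≫ fst T₁ X ≫ σ₁ ≫ A₀.π := h.trans (Category.assoc _ _ _)
    have hq : (ω ≫ fst T₁ X ≫ σ₁) ≫ A₀.π = 𝟙 _ ≫ ((mSec A₀ aX σ₁).restr ω).base := by
      change _ = _ ≫ ω ≫ _
      simp [mSec]
    have h1 := Sec.congr' hc (𝟙 _) (ω ≫ fst T₁ X ≫ σ₁) hq (by
      change _ = _ ≫ ζ ≫ _
      rw [hb]; simp)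
    rw [(secOf A₀ aX s).nat _ _ _ _ (by simp [hb])]
    refine Eq.trans ?_ ((h1.symm).trans ?_)
    · refine (secOf A₀ aX s).congr ?_ ?_ _ _
      · rw [pullback.lift_fst, Category.id_comp]
      · rw [pullback.lift_snd_assoc, Category.assoc]
    · change lift (diff A₀ _ ((𝟙 _ ≫ ω) ≫ fst T₁ X ≫ σ₁) _) ((𝟙 _ ≫ ω) ≫ snd T₁ X) ≫ aX.act = _
      rw [diff_unique A₀ _ _ _ 1 (by rw [Act.one_smul]; simp), Act.one_smul]
      simp

theorem isPullback_mHom : IsPullback ((yon S).map (pbFst A₀ aX σ₁ s))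
    ((yon S).map (pullback.fst (secOf A₀ aX s).base (σ₁ ≫ A₀.π))) (mHom A₀ aX σ₁) s := by
  have hw : (yon S).map (pbFst A₀ aX σ₁ s) ≫ mHom A₀ aX σ₁ =
      (yon S).map (pullback.fst (secOf A₀ aX s).base (σ₁ ≫ A₀.π)) ≫ s := by
    refine Sheaf.hom_ext (NatTrans.ext (funext fun T => ?_))
    ext ⟨t⟩
    change (mHom A₀ aX σ₁).hom.app T ⟨t ≫ _⟩ = s.hom.app T ⟨t ≫ _⟩
    obtain ⟨T⟩ := T
    rw [mHom_app, app_map]
    refine Eq.trans ?_ ((congrArg (fun r => Sec.restr r t) (restr_pbFst A₀ aX σ₁ s)).trans ?_)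
    · exact Sec.ext' (Category.assoc _ _ _) fun W v p h h' => (mSec A₀ aX σ₁).congr (Category.assoc _ _ _).symm rfl (by rw [Category.assoc]; exact h) (by simp only [Category.assoc]; exact h')
    · exact Sec.ext' (Category.assoc _ _ _).symm fun W v p h h' => (secOf A₀ aX s).congr (Category.assoc _ _ _) rfl (by simp only [Category.assoc]; exact h) (by rw [Category.assoc]; exact h')
  refine ⟨⟨hw⟩, ⟨PullbackCone.IsLimit.mk hw (fun c => ?_) ?_ ?_ ?_⟩⟩
  · refine ObjectProperty.homMk { app := fun T => ↾fun e => ⟨?_⟩, naturality := ?_ }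
    · exact pullback.lift (c.snd.hom.app T e).down ((c.fst.hom.app T e).down ≫ fst T₁ X) (by
        have hc := congr($(c.condition).hom.app T e)
        change (mHom A₀ aX σ₁).hom.app T ⟨(c.fst.hom.app T e).down⟩ = s.hom.app T ⟨(c.snd.hom.app T e).down⟩ at hc
        rw [mHom_app, app_map] at hc
        exact ((congrArg Sec.base hc).symm).trans (Category.assoc _ _ _).symm)
    · intro T T' g
      ext e
      apply ULift.ext
      apply pullback.hom_ext
      · change (pullback.lift _ _ _) ≫ _ = (g.unop ≫ pullback.lift _ _ _) ≫ _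
        rw [pullback.lift_fst, Category.assoc, pullback.lift_fst]
        exact congrArg ULift.down (c.snd.hom.naturality_apply g e)
      · change (pullback.lift _ _ _) ≫ _ = (g.unop ≫ pullback.lift _ _ _) ≫ _
        rw [pullback.lift_snd, Category.assoc, pullback.lift_snd, ← Category.assoc]
        exact congrArg (fun a => a ≫ fst T₁ X) (congrArg ULift.down (c.fst.hom.naturality_apply g e))
  · intro c
    refine Sheaf.hom_ext (NatTrans.ext (funext fun T => ?_))
    ext e
    have hc := congr($(c.condition).hom.app T e)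
    change (mHom A₀ aX σ₁).hom.app T ⟨(c.fst.hom.app T e).down⟩ = s.hom.app T ⟨(c.snd.hom.app T e).down⟩ at hc
    rw [mHom_app, app_map] at hc
    apply ULift.ext
    exact lift_pbFst A₀ aX σ₁ s _ _ hc _
  · intro c
    refine Sheaf.hom_ext (NatTrans.ext (funext fun T => ?_))
    ext e
    apply ULift.ext
    change pullback.lift _ _ _ ≫ pullback.fst (secOf A₀ aX s).base (σ₁ ≫ A₀.π) = _
    rw [pullback.lift_fst]
    rfl
  · intro c m h1 h2
    refine Sheaf.hom_ext (NatTrans.ext (funext fun T => ?_))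
    ext e
    apply ULift.ext
    apply pullback.hom_ext
    · refine Eq.trans ?_ (pullback.lift_fst _ _ _).symm
      exact congrArg ULift.down congr($(h2).hom.app T e)
    · refine Eq.trans ?_ (pullback.lift_snd _ _ _).symm
      have := congrArg ULift.down congr($(h1).hom.app T e)
      refine Eq.trans ?_ (congrArg (fun a => a ≫ fst T₁ X) this)
      change _ = ((m.hom.app T e).down ≫ pbFst A₀ aX σ₁ s) ≫ _
      rw [Category.assoc, pbFst, lift_fst]
      rfl

theorem repWith_mHom (P : MorphismProperty Scheme.{u}) [P.IsStableUnderBaseChange]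
    (hP : P (σ₁ ≫ A₀.π).left) : AlgSp.RepWith P (mHom A₀ aX σ₁) := by
  refine MorphismProperty.relative.of_exists fun Z s => ?_
  refine ⟨_, _, _, (isPullback_mHom A₀ aX σ₁ s), ?_⟩
  exact MorphismProperty.of_isPullback (P := P)
    (((IsPullback.of_hasPullback (secOf A₀ aX s).base (σ₁ ≫ A₀.π)).map (Over.forget S)).flip) hP

end Cover

section Obj

variable {A₀ aX} [K.HasIsos] [K.IsStableUnderBaseChange] {Z : Over S}

/-- The object of `[X/G]` of an equivariant map. -/
noncomputable def Sec.toObj (σ : Sec A₀ aX Z) : QuotObj K G aX where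
  base := Z
  P := (Obj.pull A₀ σ.base).P
  act := (Obj.pull A₀ σ.base).act
  π := (Obj.pull A₀ σ.base).π
  cart := (Obj.pull A₀ σ.base).cart
  loc := (Obj.pull A₀ σ.base).loc
  φ := σ.val (pullback.snd A₀.π σ.base) (pullback.fst A₀.π σ.base) pullback.condition
  eqv := by
    have h1 : (Obj.pull A₀ σ.base).act.act ≫ pullback.fst A₀.π σ.base =
        lift (fst G _) (snd G _ ≫ pullback.fst A₀.π σ.base) ≫ A₀.act.act := by
      refine (pullback.lift_fst _ _ _).trans ?_
      congr 1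
    have h2 : (Obj.pull A₀ σ.base).act.act ≫ pullback.snd A₀.π σ.base =
        snd G _ ≫ pullback.snd A₀.π σ.base := pullback.lift_snd _ _ _
    rw [σ.nat _ _ _ _ (by rw [Category.assoc, Category.assoc, pullback.condition])]
    refine (σ.congr h2 h1 _ ?_).trans ?_
    · rw [lift_act_π, Category.assoc, Category.assoc, pullback.condition]
    rw [σ.eqv _ _ _ (by rw [Category.assoc, Category.assoc, pullback.condition]),
      ← σ.nat (snd G _) _ _ pullback.condition]
    congr 1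

variable (B : QuotObj K G aX) (β : B.base ⟶ A₀.base) (t : B.P ⟶ A₀.P)
  (sq : IsPullback t B.π A₀.π β) (ht : B.act.act ≫ t = (G ◁ t) ≫ A₀.act.act)

/-- The equivariant map of an object lying over `A₀`. -/
noncomputable def ofObj : Sec A₀ aX B.base where
  base := β
  val _ v p h := sq.lift p v h ≫ B.φ
  nat _ _ f v p h h' := by
    rw [← Category.assoc]
    congr 1
    apply sq.hom_ext <;> simp
  eqv _ g v p h h' := by
    rw [← lift_act_φ]
    congr 1
    apply sq.hom_ext
    · rw [IsPullback.lift_fst, Category.assoc, ht, lift_whiskerLeft_assoc, IsPullback.lift_fst]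
    · rw [IsPullback.lift_snd, lift_act_π, IsPullback.lift_snd]

/-- An object whose equivariant map is a restriction maps to the object of that map. -/
noncomputable def homToObj (σ : Sec A₀ aX Z) (j : B.base ⟶ Z) (hσ : σ.restr j = ofObj B β t sq ht) :
    B ⟶ σ.toObj where
  base := j
  top := pullback.lift t (B.π ≫ j) (by
    have := congrArg Sec.base hσ
    change j ≫ σ.base = β at this
    rw [Category.assoc, this, sq.w])
  eqv := by
    apply pullback.hom_ext
    · rw [Category.assoc, pullback.lift_fst, ht, Category.assoc]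
      change _ = _ ≫ pullback.lift _ _ _ ≫ _
      rw [pullback.lift_fst, ← whiskerLeft_comp_assoc, pullback.lift_fst]
    · rw [Category.assoc, pullback.lift_snd, Category.assoc]
      change _ = _ ≫ pullback.lift _ _ _ ≫ _
      rw [pullback.lift_snd]
      erw [whiskerLeft_snd_assoc]
      rw [pullback.lift_snd, B.cart.w_assoc]
  cart := by
    have := congrArg Sec.base hσ
    change j ≫ σ.base = β at this
    refine IsPullback.of_right ?_ (pullback.lift_snd _ _ _) (IsPullback.of_hasPullback A₀.π σ.base)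
    rw [pullback.lift_fst, this]
    exact sq
  wφ := by
    change pullback.lift t (B.π ≫ j) _ ≫ σ.val _ _ _ = B.φ
    have hb : j ≫ σ.base = β := congrArg Sec.base hσ
    rw [σ.nat _ _ _ _ (by simp [hb, sq.w])]
    refine (σ.congr (pullback.lift_snd _ _ _) (pullback.lift_fst _ _ _) _ (by rw [Category.assoc, hb]; exact sq.w)).trans ?_
    refine (Sec.congr' hσ B.π t (by change _ = _ ≫ j ≫ σ.base; rw [hb]; exact sq.w) sq.w).trans ?_
    change sq.lift t B.π _ ≫ B.φ = B.φ
    rw [sq.hom_ext (by simp : sq.lift t B.π sq.w ≫ t = 𝟙 _ ≫ t) (by simp : sq.lift t B.π sq.w ≫ B.π = 𝟙 _ ≫ B.π),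
      Category.id_comp]

end Obj

end Groth.Agent.Lib.EssDimRep.QuotFibre
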