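import Groth.Agent.Lib.EssDimRep.Descend
import Groth.Agent.Lib.AlgStack.Yoneda
import Groth.Agent.Lib.AlgStack.BasedBasic
import Mathlib.Data.ENat.Lattice

/-!
# Essential dimension under a representable morphism of bounded fibre dimension
-/

set_option autoImplicit false
set_option linter.style.haveILetI false
set_option backward.isDefEq.respectTransparency false
set_option backward.isDefEq.respectTransparency.types false

universe u

open CategoryTheory CategoryTheory.Limits AlgebraicGeometry Opposite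
open Groth.Agent.Lib.AlgStack Groth.Agent.Lib.AlgStack.Yoneda Groth.Agent.Lib.AlgStack.BasedBasic

namespace Groth.Agent.Lib.EssDimRep.Stack

variable {k : Type u} [Field k] {𝒳 𝒴 : AlgSt.Cat (Spec (CommRingCat.of k))}
  [FibCat.IsFibGrpd 𝒳.p] [FibCat.IsFibGrpd 𝒴.p] (F : 𝒳 ⥤ᵇ 𝒴) (d : ℕ)

theorem edStAt_le
    (hF : AlgSt.RepByAlgSpWith
      (AlgSp.LocP @LocallyOfFiniteType ⊓ AlgSp.IsQuasiSeparatedMor ⊓ fun _ _ g => CurvSt.RelDimLE d g) F)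
    (L : Type u) [Field L] [Algebra k L] (x : StkCnt.pts 𝒳 L) :
    EssDim.edStAt 𝒳 x ≤ EssDim.edStAt 𝒴 ⟨F.obj x.1, (F.w_obj x.1).trans x.2⟩ + d := by
  rw [EssDim.edStAt, EssDim.edStAt, EssDim.edAt, EssDim.edAt, ENat.iInf_add]
  refine le_iInf fun ⟨K, hK⟩ => ?_
  obtain ⟨y₀, φ, hφ⟩ := (EssDim.descends_isoCl_iff 𝒴 _ K).1 hK
  have hp : FibCat.IsFibGrpd 𝒴.p := inferInstance
  let T := SGA7.pt (K := k) L
  let U := SGA7.pt (K := k) K
  let ι : T ⟶ U := EssDim.resPt K.val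
  let y := fromObj hp (U := U) (z := y₀.1) y₀.2
  obtain ⟨e₀, he₀⟩ := exists_fromObj_iso hp (U := U) (z := y₀.1) y₀.2
  haveI := he₀
  obtain ⟨P, e, he, ⟨hlft, hqs⟩, hdim⟩ := hF U y
  let g : Over U := Over.mk ι
  have hy : 𝒴.p.IsHomLift ι (y.map (toId g)) := map_toId_isHomLift y g
  haveI hy' : 𝒴.p.IsHomLift ι (y.map (toId g) ≫ e₀.hom) := inferInstance
  haveI : 𝒴.p.IsStronglyCartesian ι φ := stronglyCartesian hp ι φ
  haveI hFx : 𝒴.p.IsHomLift ι φ := hφ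
  let θ : y.obj g ⟶ F.obj x.1 :=
    Functor.IsStronglyCartesian.map 𝒴.p ι φ (g := 𝟙 T) (Category.id_comp ι).symm (y.map (toId g) ≫ e₀.hom)
  haveI hθ : 𝒴.p.IsHomLift (𝟙 T) θ := Functor.IsStronglyCartesian.map_isHomLift _ _ _ _ _
  haveI : IsIso θ := isIso_of_isHomLift_id hp (R := T) θ
  let η : (FibCat.fp y F).obj := ⟨⟨g, x.1, asIso θ⟩, hθ⟩
  obtain ⟨ξ, ε, hε⟩ := IsEquivOver.exists_iso he η
  haveI hε' : (FibCat.fp y F).p.IsHomLift (𝟙 T) ε.hom := hε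
  let G₁ := BasedFunctor.comp e (FibCat.fpFst y F)
  let G₂ := BasedFunctor.comp e (FibCat.fpSnd y F)
  have hb : ξ.base = T := (e.w_obj ξ).symm.trans (IsHomLift.domain_eq (FibCat.fp y F).p (𝟙 T) ε.hom)
  obtain ⟨T', sec⟩ := ξ
  obtain rfl : T' = T := hb
  have hsec : (AlgSt.spMapOfOver G₁).hom.app (op T) sec = ⟨ι⟩ := by
    rw [AlgSt.spMapOfOver_app]
    apply ULift.ext
    show AlgSt.secHom G₁ ⟨T, sec⟩ = ι
    have h2 : (ε.hom.hom.fst).left ≫ ι = (G₁.obj ⟨T, sec⟩).hom := Over.w ε.hom.hom.fst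
    have h3 : (ε.hom.hom.fst).left = eqToHom (G₁.w_obj ⟨T, sec⟩) := by
      have h4 := @IsHomLift.fac' _ _ _ _ (FibCat.fp y F).p _ _ _ _ (𝟙 T) ε.hom hε
      exact h4.trans (by simp)
    rw [AlgSt.secHom, ← h2, h3]
    simp
  obtain ⟨E, hE, s₀, hs₀⟩ := Descend.exists_descend P (AlgSt.spMapOfOver G₁) d hlft hqs hdim sec
  refine le_trans (EssDim.edAt_le_of_descends (K := E) ?_) hE
  refine (EssDim.descends_isoCl_iff 𝒳 x E).2 ⟨⟨G₂.obj ⟨SGA7.pt E, s₀⟩, G₂.w_obj _⟩, ?_⟩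
  let mor : (⟨T, sec⟩ : (AlgSt.ofSp P.obj).obj) ⟶ ⟨SGA7.pt E, s₀⟩ := ⟨EssDim.resPt E.val, hs₀⟩
  have h1 : 𝒳.p.IsHomLift (EssDim.resPt E.val) (G₂.map mor) := by
    haveI : (AlgSt.ofSp P.obj).p.IsHomLift (EssDim.resPt E.val) mor :=
      IsHomLift.map (AlgSt.ofSp P.obj).p mor
    exact BasedFunctor.preserves_isHomLift G₂ _ _
  have h2 : 𝒳.p.IsHomLift (𝟙 T) ((FibCat.fpSnd y F).map ε.inv) := by
    haveI := hε
    haveI : (FibCat.fp y F).p.IsHomLift (𝟙 T) ε.inv := inferInstance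
    exact BasedFunctor.preserves_isHomLift _ _ _
  haveI := h1
  haveI := h2
  refine ⟨(FibCat.fpSnd y F).map ε.inv ≫ G₂.map mor, ?_⟩
  exact IsHomLift.comp_lift_id_left (p := 𝒳.p) _ _ _

end Groth.Agent.Lib.EssDimRep.Stack
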